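import Groth.Agent.DR39.Hom
import Groth.Agent.DR39.Rep
import Groth.Agent.DTen43.EvalPC
import Mathlib.LinearAlgebra.Contraction
import Mathlib.LinearAlgebra.Dual.Lemmas

/-! An object with projective cohomology and trivial self-extensions is invertible. -/

set_option autoImplicit false
set_option linter.unusedSectionVars false
set_option linter.style.haveILetI false

universe u

open CategoryTheory CategoryTheory.Limits CategoryTheory.Pretriangulated MonoidalCategory
open Groth.Agent.DR39
attribute [local instance] HasDerivedCategory.standard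

namespace Groth.Agent.Inv43

variable {A : Type u} [CommRing A]

/-- A graded module as a complex with zero differential. -/
noncomputable def formal (H : ℤ → ModuleCat.{u} A) : DRing.Cx A where
  X := H
  d _ _ := 0

theorem exists_formal_iso (L : Dual.D A) (hproj : ∀ i, Module.Projective A ((HF A i).obj L)) :
    ∃ H : ℤ → ModuleCat.{u} A, (∀ i, Nonempty (H i ≅ (HF A i).obj L)) ∧
      Nonempty ((QA A).obj (formal H) ≅ L) := by
  obtain ⟨K, ⟨e⟩⟩ := exists_complex_iso L
  let H : ℤ → ModuleCat.{u} A := fun i => K.homology i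
  have eH : ∀ i, K.homology i ≅ (HF A i).obj L := fun i => (HQIso K i).symm ≪≫ (HF A i).mapIso e
  haveI : ∀ i, Projective (H i) := fun i => by
    haveI := hproj i
    haveI : Module.Projective A (H i) := Module.Projective.of_equiv (eH i).symm.toLinearEquiv
    exact (IsProjective.iff_projective (R := A) (H i)).1 inferInstance
  let s : ∀ i, H i ⟶ K.cycles i := fun i =>
    Projective.factorThru (P := H i) (𝟙 (H i)) (K.homologyπ i)
  have hs : ∀ i, s i ≫ K.homologyπ i = 𝟙 (H i) := fun i => Projective.factorThru_comp _ _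
  let f : formal H ⟶ K :=
    { f := fun i => s i ≫ K.iCycles i
      comm' := fun i j _ => by
        rw [Category.assoc, K.iCycles_d, comp_zero]
        exact zero_comp.symm }
  haveI : QuasiIso f := by
    refine ⟨fun i => ?_⟩
    rw [quasiIsoAt_iff_isIso_homologyMap]
    have hz : ∀ j k, (formal H).d j k = 0 := fun _ _ => rfl
    haveI hiC : IsIso ((formal H).iCycles i) := (formal H).isIso_iCycles i (i + 1) (by simp) (hz _ _)
    haveI : IsIso ((formal H).homologyπ i) := (formal H).isIso_homologyπ (i - 1) i (by simp) (hz _ _)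
    have hc : HomologicalComplex.cyclesMap f i =
        (formal H).iCycles i ≫ s i := by
      rw [← cancel_mono (K.iCycles i), HomologicalComplex.cyclesMap_i, Category.assoc]
    have h : (formal H).homologyπ i ≫ HomologicalComplex.homologyMap f i = (formal H).iCycles i := by
      rw [HomologicalComplex.homologyπ_naturality, hc, Category.assoc]
      exact (congrArg (_ ≫ ·) (hs i)).trans (Category.comp_id _)
    haveI : IsIso ((formal H).homologyπ i ≫ HomologicalComplex.homologyMap f i) := by
      rw [h]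
      exact hiC
    exact IsIso.of_isIso_comp_left ((formal H).homologyπ i) _
  haveI : IsIso ((QA A).map f) := (DerivedCategory.isIso_Q_map_iff_quasiIso _ _).2 inferInstance
  exact ⟨H, fun i => ⟨eH i⟩, ⟨asIso ((QA A).map f) ≪≫ e⟩⟩

variable (H : ℤ → ModuleCat.{u} A) (b : ℤ) (hb : ∀ i, b < i → IsZero (H i))
  (hp : ∀ i, Module.Projective A (H i))

include hb hp in
theorem eq_of_Q_map {K : DRing.Cx A} (hK : ∀ i j, K.d i j = 0) {f g : formal H ⟶ K}
    (h : (QA A).map f = (QA A).map g) : f = g := by
  haveI := isKProjective_of_bddAbove (formal H) b hb hp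
  obtain ⟨ho⟩ := (Q_map_eq_iff f g).1 h
  refine HomologicalComplex.hom_ext _ _ fun i => ?_
  rw [ho.comm i, dNext_eq _ (show (ComplexShape.up ℤ).Rel i (i + 1) by simp),
    prevD_eq _ (show (ComplexShape.up ℤ).Rel (i - 1) i by simp), hK]
  simp [formal]
  erw [zero_add, zero_add]

variable {L : Dual.D A} (e : (QA A).obj (formal H) ≅ L)

include hb hp e in
theorem hom_eq_zero_of_ext {n : ℤ} (hn : ∀ f : L ⟶ L⟦n⟧, f = 0) (p q : ℤ) (hpq : p + n = q)
    (g : H p ⟶ H q) : g = 0 := by
  classical
  let K : DRing.Cx A := (shiftFunctor (DRing.Cx A) n).obj (formal H)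
  have hK : ∀ i j, K.d i j = 0 := fun i j => by
    show n.negOnePow • (0 : H (i + n) ⟶ H (j + n)) = 0
    exact smul_zero _
  let f : formal H ⟶ K :=
    { f := fun i => if h : i = p then eqToHom (congrArg H h) ≫ g ≫ eqToHom (congrArg H (by omega : q = i + n))
        else 0
      comm' := fun i j _ => by
        rw [hK, comp_zero]
        exact zero_comp.symm }
  let c := ((QA A).commShiftIso n).app (formal H)
  have h0 : (QA A).map f = 0 := by
    have := hn (e.inv ≫ (QA A).map f ≫ c.hom ≫ e.hom⟦n⟧')
    rw [← cancel_epi e.inv, ← cancel_mono (c.hom ≫ e.hom⟦n⟧')]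
    simpa using this
  have := congrArg (fun t : formal H ⟶ K => t.f p)
    (eq_of_Q_map H b hb hp hK (f := f) (g := 0) (h0.trans (Functor.map_zero _ _ _).symm))
  simp only [HomologicalComplex.zero_f, f, dite_true, eqToHom_refl, Category.id_comp] at this
  exact (cancel_mono (eqToHom (congrArg H (by omega : q = p + n)))).1 (this.trans zero_comp.symm)

include hb hp e in
theorem scalar_bijective (hend : Function.Bijective (fun r : A => r • 𝟙 L)) :
    (∀ g : ∀ i, H i ⟶ H i, ∃ r : A, ∀ i, g i = r • 𝟙 (H i)) ∧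
      ∀ r : A, (∀ i, r • 𝟙 (H i) = 0) → r = 0 := by
  have hQ : ∀ r : A, e.inv ≫ (QA A).map (r • 𝟙 (formal H)) ≫ e.hom = r • 𝟙 L := fun r => by
    rw [Functor.map_smul, CategoryTheory.Functor.map_id, Linear.smul_comp, Linear.comp_smul,
      Category.id_comp, Iso.inv_hom_id]
  constructor
  · intro g
    let f : formal H ⟶ formal H :=
      { f := g
        comm' := fun i j _ => (comp_zero (Z := H j)).trans zero_comp.symm }
    obtain ⟨r, hr⟩ := hend.2 (e.inv ≫ (QA A).map f ≫ e.hom)
    simp only at hr
    rw [← hQ, cancel_epi, cancel_mono] at hr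
    exact ⟨r, fun i => (congrArg (fun t : formal H ⟶ formal H => t.f i)
      (eq_of_Q_map H b hb hp (fun _ _ => rfl) hr)).symm⟩
  · intro r hr
    refine hend.1 (?_ : r • 𝟙 L = (0 : A) • 𝟙 L)
    have h0 : r • 𝟙 (formal H) = 0 := HomologicalComplex.hom_ext _ _ hr
    rw [← hQ, h0, Functor.map_zero, zero_comp, comp_zero, zero_smul]

section Invertible

variable [DTen.HasLTen A]

/-- The dual of a formal complex. -/
noncomputable abbrev dualH : ℤ → ModuleCat.{u} A := fun q => ModuleCat.of A (Module.Dual A (H (-q)))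

include hb hp e in
theorem isInvertible_of_formal (a : ℤ) (ha : ∀ i, i < a → IsZero (H i)) (hfin : ∀ i, Module.Finite A (H i))
    (hend : Function.Bijective (fun r : A => r • 𝟙 L)) (hext : ∀ n : ℤ, n ≠ 0 → ∀ f : L ⟶ L⟦n⟧, f = 0) :
    DTen.IsInvertible A L := by
  classical
  haveI := DTen43.hasLTen₃ A
  haveI := DTen43.isSymMonoidal A
  haveI := hfin
  haveI := hp
  let E := formal H
  let E' := formal (dualH H)
  let D := fun (p : ℤ) (q : ℤ) => LinearEquiv.trans (TensorProduct.comm A (H p) (Module.Dual A (H q)))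
    (dualTensorHomEquiv (R := A) (M := H q) (N := H p))
  obtain ⟨hsurj, hinj⟩ := scalar_bijective H b hb hp e hend
  have hzero : ∀ n : ℤ, n ≠ 0 → IsZero ((E ⊗ E').X n) := fun n hn => by
    refine IsZero.of_iso ?_ (Iso.refl _)
    rw [IsZero.iff_id_eq_zero]
    refine HomologicalComplex.mapBifunctor.hom_ext fun p q hpq => ?_
    have hs : Subsingleton (TensorProduct A (H p) (Module.Dual A (H (-q)))) := by
      have : ∀ g : H (-q) →ₗ[A] H p, g = 0 := fun g => congrArg ModuleCat.Hom.hom
        (hom_eq_zero_of_ext H b hb hp e (hext n hn) (-q) p (by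
          simp only [ComplexShape.π_def] at hpq
          omega) (ModuleCat.ofHom g))
      haveI : Subsingleton (H (-q) →ₗ[A] H p) := ⟨fun g g' => (this g).trans (this g').symm⟩
      exact (D p (-q)).toEquiv.subsingleton
    exact (@ModuleCat.isZero_of_subsingleton _ _ (E.X p ⊗ E'.X q) hs).eq_of_src _ _
  let ι := fun (p : ℤ) => HomologicalComplex.ιTensorObj E E' p (-p) 0 (add_neg_cancel p)
  let cast := fun (p : ℤ) => eqToIso (C := ModuleCat.{u} A)
    (congrArg (fun i => ModuleCat.of A (Module.Dual A (H i))) (neg_neg p).symm)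
  let Ψ : ∀ p, (H p →ₗ[A] H p) ≃ₗ[A] (E.X p ⊗ E'.X (-p) : ModuleCat.{u} A) := fun p =>
    (D p p).symm.trans (((tensorLeft (H p)).mapIso (cast p)).toLinearEquiv)
  let S : Finset ℤ := Finset.Icc a b
  let η : (E ⊗ E').X 0 := ∑ p ∈ S, (ι p).hom (Ψ p LinearMap.id)
  have hout : ∀ p, p ∉ S → IsZero (H p) := fun p hp' => by
    rw [Finset.mem_Icc] at hp'
    by_cases h : p < a
    · exact ha p h
    · exact hb p (by omega)
  have hι0 : ∀ p, p ∉ S → ι p = 0 := fun p hp' =>
    ((tensorRight (E'.X (-p))).map_isZero (hout p hp')).eq_of_src _ _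
  have hsum : ∀ r : A, r • η = ∑ p ∈ S, (ι p).hom (Ψ p (r • LinearMap.id)) := fun r => by
    simp only [η, Finset.smul_sum]
    refine Finset.sum_congr rfl fun p _ => ?_
    erw [(Ψ p).map_smul, (ι p).hom.map_smul]
  let N := LinearMap.range (LinearMap.toSpanSingleton A _ η)
  have hsurj' : ∀ x, x ∈ N := by
    have hq : ModuleCat.ofHom N.mkQ = 0 := by
      refine HomologicalComplex.mapBifunctor.hom_ext fun p q hpq => ?_
      have hpq' : p + q = 0 := hpq
      obtain rfl : q = -p := by omega
      rw [comp_zero]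
      refine ModuleCat.hom_ext (LinearMap.ext fun z => (Submodule.Quotient.mk_eq_zero N).2 ?_)
      show (ι p).hom z ∈ N
      by_cases hpS : p ∈ S
      · obtain ⟨r, hr⟩ := hsurj (Pi.single p (ModuleCat.ofHom ((Ψ p).symm z)))
        have hr' : ∀ i, (r • LinearMap.id : H i →ₗ[A] H i) =
            (Pi.single (M := fun i => H i ⟶ H i) p (ModuleCat.ofHom ((Ψ p).symm z)) i).hom := fun i => by
          rw [hr i]; rfl
        refine ⟨r, ?_⟩
        show r • η = (ι p).hom z
        rw [hsum, Finset.sum_eq_single p]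
        · refine congrArg (ι p).hom ?_
          refine ((congrArg (Ψ p) (hr' p))).trans ?_
          rw [Pi.single_eq_same]
          exact (Ψ p).apply_symm_apply z
        · intro i _ hi
          refine (congrArg (fun t => (ι i).hom (Ψ i t)) (hr' i)).trans ?_
          rw [Pi.single_eq_of_ne hi]
          exact (congrArg (ι i).hom (Ψ i).map_zero).trans (ι i).hom.map_zero
        · exact fun h => absurd hpS h
      · rw [hι0 p hpS]
        exact N.zero_mem
    exact fun x => (Submodule.Quotient.mk_eq_zero N).1 (LinearMap.congr_fun (congrArg ModuleCat.Hom.hom hq) x)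
  have hinj' : ∀ r : A, r • η = 0 → r = 0 := fun r hr => hinj r fun i => by
    by_cases hi : i ∈ S
    · let π : (E ⊗ E').X 0 ⟶ E.X i ⊗ E'.X (-i) := HomologicalComplex.mapBifunctorDesc fun p q hpq =>
        if h : p = i then eqToHom (by
          have : p + q = 0 := hpq
          obtain rfl : q = -i := by omega
          subst h; rfl) else 0
      have hπ₁ : ι i ≫ π = 𝟙 _ :=
        (HomologicalComplex.ι_mapBifunctorDesc _ i (-i) (add_neg_cancel i)).trans (by simp)
      have hπ₀ : ∀ p, p ≠ i → ι p ≫ π = 0 := fun p hp' =>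
        (HomologicalComplex.ι_mapBifunctorDesc _ p (-p) (add_neg_cancel p)).trans (by simp [hp'])
      have h1 := congrArg π.hom hr
      rw [hsum, map_sum, map_zero, Finset.sum_eq_single i] at h1
      · have h2 : r • (LinearMap.id : H i →ₗ[A] H i) = 0 := by
          apply (Ψ i).injective
          refine Eq.trans ?_ (Ψ i).map_zero.symm
          exact ((LinearMap.congr_fun (congrArg ModuleCat.Hom.hom hπ₁) _).symm).trans h1
        exact ModuleCat.hom_ext h2
      · intro p _ hp'
        exact LinearMap.congr_fun (congrArg ModuleCat.Hom.hom (hπ₀ p hp')) _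
      · exact fun h => absurd hi h
    · exact (hout i hi).eq_of_src _ _
  let e₀ : ModuleCat.of A A ≅ (E ⊗ E').X 0 := (LinearEquiv.ofBijective (LinearMap.toSpanSingleton A _ η)
    ⟨(injective_iff_map_eq_zero _).2 hinj', hsurj'⟩).toModuleIso
  let ψ : E ⊗ E' ⟶ (HomologicalComplex.single (ModuleCat.{u} A) (ComplexShape.up ℤ) 0).obj (ModuleCat.of A A) :=
    HomologicalComplex.mkHomToSingle e₀.inv fun j hj => by
      have : j + 1 = 0 := hj
      exact (hzero j (by omega)).eq_of_src _ _
  haveI : ∀ i, IsIso (ψ.f i) := fun i => by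
    by_cases hi : i = 0
    · subst hi
      rw [HomologicalComplex.mkHomToSingle_f]
      infer_instance
    · exact ⟨0, (hzero i hi).eq_of_src _ _,
        (HomologicalComplex.isZero_single_obj_X (ComplexShape.up ℤ) _ _ i hi).eq_of_src _ _⟩
  haveI := HomologicalComplex.Hom.isIso_of_components ψ
  have hK' : DRing.IsKFlat A E' := isKFlat_of_flat (-a)
    (fun j hj => by
      haveI := ModuleCat.subsingleton_of_isZero (ha (-j) (by omega))
      haveI : Subsingleton (E'.X j) := inferInstanceAs (Subsingleton (H (-j) →ₗ[A] A))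
      exact ModuleCat.isZero_of_subsingleton _) fun j => by
    show Module.Flat A (Module.Dual A (H (-j)))
    infer_instance
  haveI := DTen43.isIso_μ E E' (Or.inr hK')
  let i₁ : L ⊗ (QA A).obj E' ≅ DTen.unit A :=
    (e.symm ⊗ᵢ Iso.refl _) ≪≫ asIso (DTen43.μ E E') ≪≫ (QA A).mapIso (asIso ψ) ≪≫
      ((DerivedCategory.singleFunctorIsoCompQ (ModuleCat.{u} A) 0).app _).symm
  exact ⟨(QA A).obj E', ⟨i₁⟩, ⟨(β_ _ _) ≪≫ i₁⟩⟩

end Invertible

/-- Criterion for invertibility. -/
theorem isInvertible_of_projective_homology [DTen.HasLTen A] (L : Dual.D A) (a b : ℤ)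
    (hz : ∀ i, (i < a ∨ b < i) → IsZero ((HF A i).obj L))
    (hfin : ∀ i, Module.Finite A ((HF A i).obj L)) (hproj : ∀ i, Module.Projective A ((HF A i).obj L))
    (hend : Function.Bijective (fun r : A => r • 𝟙 L)) (hext : ∀ n : ℤ, n ≠ 0 → ∀ f : L ⟶ L⟦n⟧, f = 0) :
    DTen.IsInvertible A L := by
  obtain ⟨H, hH, ⟨e⟩⟩ := exists_formal_iso L hproj
  refine isInvertible_of_formal H b (fun i hi => ?_) (fun i => ?_) e a (fun i hi => ?_) (fun i => ?_) hend hext
  · exact (hz i (Or.inr hi)).of_iso (hH i).some
  · haveI := hproj i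
    exact Module.Projective.of_equiv (hH i).some.symm.toLinearEquiv
  · exact (hz i (Or.inl hi)).of_iso (hH i).some
  · haveI := hfin i
    exact Module.Finite.equiv (hH i).some.symm.toLinearEquiv

end Groth.Agent.Inv43
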