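import Groth.Agent.Inv43.Projective
import Groth.Agent.Inv43.Formal
import Groth.Agent.DR39.InjAmp
import Groth.Agent.DR40.DCTri

/-! The image of the ring under a linear autoequivalence of `D^b_coh`. -/

set_option autoImplicit false
set_option linter.unusedSectionVars false
set_option linter.style.haveILetI false

universe u

open CategoryTheory CategoryTheory.Limits CategoryTheory.Pretriangulated
open Groth.Agent.DR39
attribute [local instance] HasDerivedCategory.standard

namespace Groth.Agent.Inv43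

variable {A : Type u} [CommRing A]

theorem hom_ring_eq_zero (N : Type u) [AddCommGroup N] [Module A N] (i : ℤ) (hi : i ≠ 0)
    (f : Dual.inD A A ⟶ (Dual.inD A N)⟦i⟧) : f = 0 := by
  haveI : Projective (ModuleCat.of A A) := (IsProjective.iff_projective (R := A) A).1 inferInstance
  have hz : IsZero ((HF A i).obj (Dual.inD A N)) := by
    rcases lt_or_gt_of_ne hi with h | h
    · exact DerivedCategory.isZero_of_isGE _ 0 i h
    · exact DerivedCategory.isZero_of_isLE _ 0 i h
  have hz0 : IsZero ((HF A 0).obj ((Dual.inD A N)⟦i⟧)) :=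
    hz.of_iso (((HF A 0).shiftIso i 0 i (add_zero i)).app _)
  exact (homToH0_bijective (ModuleCat.of A A) _).1 (hz0.eq_of_tgt _ _)

theorem concentrated (m : Ideal A) [m.IsMaximal] (X : Dual.D A)
    (hpos : ∀ p : ℤ, 0 < p → ∀ f : X⟦p⟧ ⟶ X, f = 0)
    (hm : ∀ (i : ℤ) (r : A), r ∈ m → ∀ x : Dual.HD A X i, r • x = 0)
    (a b : ℤ) (hb : ∀ i, (i < a ∨ b < i) → IsZero ((HF A i).obj X))
    (hne : ∃ i, ¬ IsZero ((HF A i).obj X)) :
    ∃ (t : ℤ) (V : ModuleCat.{u} A),
      Nonempty (X ≅ (DerivedCategory.singleFunctor (ModuleCat.{u} A) t).obj V) ∧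
        ∃ (s : ModuleCat.of A (A ⧸ m) ⟶ V), Mono s := by
  classical
  letI := Ideal.Quotient.field m
  have hrange : ∀ i, ¬ IsZero ((HF A i).obj X) → a ≤ i ∧ i ≤ b := fun i hi => by
    by_contra hc
    exact hi (hb i (by omega))
  obtain ⟨t, ht, htop⟩ := Int.exists_greatest_of_bdd ⟨b, fun i hi => (hrange i hi).2⟩ hne
  obtain ⟨l, hl, hbot⟩ := Int.exists_least_of_bdd ⟨a, fun i hi => (hrange i hi).1⟩ hne
  let V := (HF A t).obj X
  let W := (HF A l).obj X
  haveI hle : X.IsLE t := (DerivedCategory.isLE_iff X t).2 fun i hi => by_contra fun h => absurd (htop i h) (by omega)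
  have hsec : ∀ (U : ModuleCat.{u} A), ¬ IsZero U → (∀ r ∈ m, ∀ x : U, r • x = 0) →
      ∃ s : ModuleCat.of A (A ⧸ m) ⟶ U, Mono s := by
    intro U hU hUm
    have hU' : ¬ Subsingleton U := fun h => hU (ModuleCat.isZero_of_subsingleton U)
    rw [not_subsingleton_iff_nontrivial] at hU'
    obtain ⟨w, hw⟩ := exists_ne (0 : U)
    let s : (A ⧸ m) →ₗ[A] U := Submodule.liftQ m (LinearMap.toSpanSingleton A U w) fun r hr => hUm r hr w
    refine ⟨ModuleCat.ofHom s, (ModuleCat.mono_iff_injective _).2 ((injective_iff_map_eq_zero s).2 fun y hy => ?_)⟩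
    obtain ⟨r, rfl⟩ := Submodule.mkQ_surjective m y
    refine (Submodule.Quotient.mk_eq_zero m).2 (by_contra fun hr => hw ?_)
    obtain ⟨c, i, hi, hci⟩ := (‹m.IsMaximal›.exists_inv hr)
    have hy' : r • w = 0 := hy
    calc w = (1 : A) • w := (one_smul _ _).symm
      _ = (c * r + i) • w := by rw [← hci]
      _ = 0 := by rw [add_smul, mul_smul, hy', smul_zero, hUm i hi w, add_zero]
  have htl : l = t := by
    by_contra hne'
    have hlt : l < t := lt_of_le_of_ne (htop l hl) hne'
    obtain ⟨φ, hφ⟩ : ∃ φ : V →ₗ[A] A ⧸ m, φ ≠ 0 := by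
      by_contra! hall
      apply ht
      have hVm : ∀ (U : Submodule A V), U = m • ⊤ → U = ⊥ := fun U hU => by
        rw [hU, eq_bot_iff, Submodule.smul_le]
        exact fun r hr x _ => (Submodule.mem_bot A).2 (hm t r hr x)
      let M := V ⧸ m • (⊤ : Submodule A V)
      let bM := Module.Free.chooseBasis (A ⧸ m) M
      refine @ModuleCat.isZero_of_subsingleton _ _ V ⟨fun x y => ?_⟩
      have : ∀ x : V, x = 0 := fun x => by
        refine (Submodule.mem_bot A).1 (hVm _ rfl ▸ (Submodule.Quotient.mk_eq_zero _).1 ?_)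
        refine bM.forall_coord_eq_zero_iff.1 fun j => ?_
        exact LinearMap.congr_fun (hall (((bM.coord j).restrictScalars A) ∘ₗ (m • (⊤ : Submodule A V)).mkQ)) x
      rw [this x, this y]
    obtain ⟨s, hs⟩ := hsec W hl (fun r hr x => hm l r hr x)
    have hgne : ModuleCat.ofHom φ ≫ s ≠ 0 := fun h =>
      hφ (congrArg ModuleCat.Hom.hom ((cancel_mono s).1 (h.trans zero_comp.symm)))
    obtain ⟨T, hT, hT₂, h₁, -, ⟨e⟩⟩ := exists_triangle_top X t ((acyc_iff_isLE _ X).2 (by simpa using hle))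
    subst hT₂
    obtain ⟨T', hT', hT'₂, h₁', -, hT'₃⟩ : ∃ T' : Triangle (Dual.D A), T' ∈ distinguishedTriangles ∧
        T'.obj₂ = T.obj₂ ∧ T'.obj₃.IsGE (l + 1) ∧ True ∧
        Nonempty (T'.obj₁ ≅ (DerivedCategory.singleFunctor (ModuleCat.{u} A) l).obj W) := by
      let T' := ((DerivedCategory.TStructure.t : Triangulated.TStructure (Dual.D A)).triangleLTGE (l + 1)).obj T.obj₂
      have hT' : T' ∈ distinguishedTriangles := DerivedCategory.TStructure.t.triangleLTGE_distinguished _ _
      haveI hge : T'.obj₃.IsGE (l + 1) := inferInstanceAs (DerivedCategory.TStructure.t.IsGE _ (l + 1))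
      haveI hle' : T'.obj₁.IsLE l := DerivedCategory.TStructure.t.isLE_truncLT_obj T.obj₂ (l + 1) l (by omega)
      have hiso : ∀ i, i ≤ l → IsIso ((HF A i).map T'.mor₁) := fun i hi => by
        haveI : Epi ((HF A i).map T'.mor₁) := (DerivedCategory.HomologySequence.epi_homologyMap_mor₁_iff T' hT' i).2
          ((T'.obj₃.isZero_of_isGE (l + 1) i (by omega)).eq_of_tgt _ _)
        haveI : Mono ((HF A i).map T'.mor₁) :=
          (DerivedCategory.HomologySequence.mono_homologyMap_mor₁_iff T' hT' (i - 1) i (by omega)).2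
            ((T'.obj₃.isZero_of_isGE (l + 1) (i - 1) (by omega)).eq_of_src _ _)
        exact isIso_of_mono_of_epi _
      obtain ⟨e'⟩ := exists_iso_single_homology T'.obj₁ l fun i hi => by
        rcases lt_or_gt_of_ne hi with h | h
        · haveI := hiso i h.le
          exact (by_contra fun hh => absurd (hbot i hh) (by omega) : IsZero ((HF A i).obj T.obj₂)).of_iso
            (@asIso _ _ _ _ _ (hiso i h.le))
        · exact T'.obj₁.isZero_of_isLE l i h
      haveI := hiso l le_rfl
      exact ⟨T', hT', rfl, hge, trivial,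
        ⟨e' ≪≫ (DerivedCategory.singleFunctor _ l).mapIso (@asIso _ _ _ _ _ (hiso l le_rfl))⟩⟩
    obtain ⟨e'⟩ := hT'₃
    let c : T.obj₃ ⟶ (DerivedCategory.singleFunctor (ModuleCat.{u} A) t).obj W :=
      e.hom ≫ (DerivedCategory.singleFunctor (ModuleCat.{u} A) t).map (ModuleCat.ofHom φ ≫ s)
    let σ : ((DerivedCategory.singleFunctor (ModuleCat.{u} A) t).obj W)⟦t - l⟧ ≅ T'.obj₁ :=
      ((DerivedCategory.singleFunctors (ModuleCat.{u} A)).shiftIso (t - l) l t (by omega)).app W ≪≫ e'.symm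
    let g : T.obj₂⟦t - l⟧ ⟶ T'.obj₁ := (T.mor₂ ≫ c)⟦t - l⟧' ≫ σ.hom
    have hg1 : g ≫ T'.mor₁ = 0 := by
      apply (cancel_mono (eqToHom hT'₂)).1
      rw [zero_comp]
      exact hpos (t - l) (by omega) _
    obtain ⟨k', hk'⟩ := Triangle.coyoneda_exact₂ _ (inv_rot_of_distTriang T' hT') g hg1
    haveI := hle
    haveI := h₁'
    haveI := DerivedCategory.TStructure.t.isLE_shift T.obj₂ t (t - l) l (by omega)
    haveI : DerivedCategory.TStructure.t.IsGE T'.invRotate.obj₁ (l + 2) :=
      DerivedCategory.TStructure.t.isGE_shift T'.obj₃ (l + 1) (-1) (l + 2) (by omega)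
    have hk0 : k' = 0 := DerivedCategory.TStructure.t.zero k' l (l + 2) (by omega)
    have hg0 : g = 0 := hk'.trans (by rw [hk0]; exact zero_comp)
    have h3 : T.mor₂ ≫ c = 0 := (shiftFunctor (Dual.D A) (t - l)).map_injective
      (((cancel_mono σ.hom).1 (hg0.trans zero_comp.symm)).trans (Functor.map_zero _ _ _).symm)
    have hc0 : c = 0 := eq_zero_of_precomp hT c t t ((acyc_iff_isLE t _).1 h₁)
      (inferInstanceAs (((DerivedCategory.singleFunctor (ModuleCat.{u} A) t).obj W).IsGE t)) (by omega) h3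
    exact hgne ((DerivedCategory.singleFunctor (ModuleCat.{u} A) t).map_injective
      (((cancel_epi e.hom).1 (hc0.trans comp_zero.symm)).trans (Functor.map_zero _ _ _).symm))
  subst htl
  obtain ⟨e⟩ := exists_iso_single_homology X l fun i hi => by_contra fun h => hi (le_antisymm (htop i h) (hbot i h))
  exact ⟨l, V, ⟨e⟩, hsec V ht (fun r hr x => hm l r hr x)⟩


variable {P : ObjectProperty (Dual.D A)} [P.IsTriangulated]
  (F : P.FullSubcategory ⥤ P.FullSubcategory) [F.CommShift ℤ] [F.IsTriangulated] [F.IsEquivalence]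
  [F.Additive] [F.Linear A]

theorem ext_transfer (X Y : P.FullSubcategory) (n : ℤ)
    (h : ∀ f : X.obj ⟶ Y.obj⟦n⟧, f = 0) (f : (F.obj X).obj ⟶ (F.obj Y).obj⟦n⟧) : f = 0 := by
  obtain ⟨g, hg⟩ := (F ⋙ P.ι).map_surjective (f ≫ (((F ⋙ P.ι).commShiftIso n).app Y).inv)
  have hg0 : g = 0 := by
    apply P.ι.map_injective
    rw [Functor.map_zero, ← cancel_mono ((P.ι.commShiftIso n).app Y).hom, zero_comp]
    exact h _
  rw [hg0, Functor.map_zero] at hg
  exact (cancel_mono (((F ⋙ P.ι).commShiftIso n).app Y).inv).1 (hg.symm.trans zero_comp.symm)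

theorem smul_transfer (X : P.FullSubcategory) (r : A) :
    P.ι.map (F.map (r • 𝟙 X)) = r • 𝟙 (F.obj X).obj := by
  rw [Functor.map_smul, CategoryTheory.Functor.map_id]
  rfl

/-- `F` sends residue fields to objects with one cohomology module, killed by the maximal ideal. -/
theorem point_image (m : Ideal A) [m.IsMaximal] (hk : P (Dual.inD A (A ⧸ m)))
    (a b : ℤ) (hb : ∀ i, (i < a ∨ b < i) → IsZero ((HF A i).obj (F.obj ⟨_, hk⟩).obj)) :
    ∃ (t : ℤ) (V : ModuleCat.{u} A),
      Nonempty ((F.obj ⟨_, hk⟩).obj ≅ (DerivedCategory.singleFunctor (ModuleCat.{u} A) t).obj V) ∧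
        ∃ (s : ModuleCat.of A (A ⧸ m) ⟶ V), Mono s := by
  classical
  letI := Ideal.Quotient.field m
  let k : P.FullSubcategory := ⟨_, hk⟩
  let X := (F.obj k).obj
  let I := DerivedCategory.singleFunctor (ModuleCat.{u} A) 0
  have hneg : ∀ n : ℤ, n < 0 → ∀ f : X ⟶ X⟦n⟧, f = 0 := fun n hn => ext_transfer F k k n fun f => by
    haveI := isGE_inD_shift (A := A) (A ⧸ m) n
    exact DerivedCategory.TStructure.t.zero f 0 (-n) (by omega)
  have hpos : ∀ p : ℤ, 0 < p → ∀ f : X⟦p⟧ ⟶ X, f = 0 := fun p hp f => by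
    apply (shiftFunctor (Dual.D A) (-p)).map_injective
    rw [Functor.map_zero]
    exact (cancel_epi ((shiftFunctorCompIsoId (Dual.D A) p (-p) (add_neg_cancel p)).inv.app X)).1
      ((hneg (-p) (by omega) _).trans comp_zero.symm)
  have hm : ∀ (i : ℤ) (r : A), r ∈ m → ∀ x : Dual.HD A X i, r • x = 0 := fun i r hr x => by
    have h0 : r • 𝟙 k = 0 := by
      apply P.ι.map_injective
      rw [Functor.map_smul, Functor.map_zero, CategoryTheory.Functor.map_id]
      show r • 𝟙 (I.obj (ModuleCat.of A (A ⧸ m))) = 0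
      have : r • 𝟙 (ModuleCat.of A (A ⧸ m)) = 0 := ModuleCat.hom_ext (LinearMap.ext fun y => by
        obtain ⟨y, rfl⟩ := Submodule.mkQ_surjective m y
        show r • m.mkQ y = 0
        rw [← map_smul]
        exact (Submodule.Quotient.mk_eq_zero m).2 (m.mul_mem_right _ hr))
      rw [← I.map_id, ← Functor.map_smul, this, Functor.map_zero]
    have h1 : r • 𝟙 X = 0 := by
      rw [← smul_transfer F k, h0, Functor.map_zero, Functor.map_zero]
    rw [← DR40.HF_smul r X i x, h1, Functor.map_zero]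
    rfl
  have hne : ∃ i, ¬ IsZero ((HF A i).obj X) := by
    by_contra! h
    have hX : IsZero X := isZero_of_forall h
    have h0 : (𝟙 k) = 0 := (F ⋙ P.ι).map_injective (hX.eq_of_src _ _)
    have h1 : 𝟙 (Dual.inD A (A ⧸ m)) = 0 := congrArg (fun t => P.ι.map t) h0 |>.trans (Functor.map_zero _ _ _)
    have h2 : 𝟙 (ModuleCat.of A (A ⧸ m)) = 0 :=
      I.map_injective ((I.map_id _).trans (h1.trans (Functor.map_zero _ _ _).symm))
    exact one_ne_zero (α := A ⧸ m) (LinearMap.congr_fun (congrArg ModuleCat.Hom.hom h2) 1)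
  exact concentrated m X hpos hm a b hb hne

theorem isSplitMono_residue (m : Ideal A) [m.IsMaximal] {V : ModuleCat.{u} A}
    (s : ModuleCat.of A (A ⧸ m) ⟶ V) [Mono s] (hV : ∀ r ∈ m, ∀ x : V, r • x = 0) : IsSplitMono s := by
  classical
  letI := Ideal.Quotient.field m
  have htor : Module.IsTorsionBySet A V (m : Set A) := fun x r => hV r r.2 x
  letI : Module (A ⧸ m) V := htor.module
  haveI : IsScalarTower A (A ⧸ m) V := htor.isScalarTower
  let s' : (A ⧸ m) →ₗ[A ⧸ m] V := LinearMap.extendScalarsOfSurjective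
    (R := A) (S := A ⧸ m) Ideal.Quotient.mk_surjective s.hom
  obtain ⟨t, ht⟩ := s'.exists_leftInverse_of_injective
    (LinearMap.ker_eq_bot.2 ((ModuleCat.mono_iff_injective s).1 inferInstance))
  exact ⟨⟨{ retraction := ModuleCat.ofHom (t.restrictScalars A)
            id := ModuleCat.hom_ext (LinearMap.ext fun x => LinearMap.congr_fun ht x) }⟩⟩

theorem smul_point_image (m : Ideal A) (hk : P (Dual.inD A (A ⧸ m))) (r : A) (hr : r ∈ m) :
    r • 𝟙 (F.obj ⟨_, hk⟩).obj = 0 := by
  let I := DerivedCategory.singleFunctor (ModuleCat.{u} A) 0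
  let k : P.FullSubcategory := ⟨_, hk⟩
  have h0 : r • 𝟙 k = 0 := by
    apply P.ι.map_injective
    rw [Functor.map_smul, Functor.map_zero, CategoryTheory.Functor.map_id]
    show r • 𝟙 (I.obj (ModuleCat.of A (A ⧸ m))) = 0
    have : r • 𝟙 (ModuleCat.of A (A ⧸ m)) = 0 := ModuleCat.hom_ext (LinearMap.ext fun y => by
      obtain ⟨y, rfl⟩ := Submodule.mkQ_surjective m y
      show r • m.mkQ y = 0
      rw [← map_smul]
      exact (Submodule.Quotient.mk_eq_zero m).2 (m.mul_mem_right _ hr))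
    rw [← I.map_id, ← Functor.map_smul, this, Functor.map_zero]
  rw [← smul_transfer F k, h0, Functor.map_zero, Functor.map_zero]

theorem smul_eq_zero_of_iso (m : Ideal A) (hk : P (Dual.inD A (A ⧸ m))) {t : ℤ} {V : ModuleCat.{u} A}
    (e : (F.obj ⟨_, hk⟩).obj ≅ (DerivedCategory.singleFunctor (ModuleCat.{u} A) t).obj V) :
    ∀ r ∈ m, ∀ x : V, r • x = 0 := fun r hr x => by
  have h : r • 𝟙 V = 0 := by
    apply (DerivedCategory.singleFunctor (ModuleCat.{u} A) t).map_injective
    rw [Functor.map_smul, CategoryTheory.Functor.map_id, Functor.map_zero, ← e.inv_hom_id,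
      ← Category.id_comp e.hom, ← Linear.comp_smul, ← Linear.smul_comp, smul_point_image F m hk r hr,
      zero_comp, comp_zero]
  exact LinearMap.congr_fun (congrArg ModuleCat.Hom.hom h) x

theorem scalar_transfer (hA : P (Dual.inD A A)) :
    Function.Bijective (fun r : A => r • 𝟙 (F.obj ⟨_, hA⟩).obj) := by
  let I := DerivedCategory.singleFunctor (ModuleCat.{u} A) 0
  let u : P.FullSubcategory := ⟨_, hA⟩
  constructor
  · intro r r' h
    replace h : P.ι.map (F.map (r • 𝟙 u)) = P.ι.map (F.map (r' • 𝟙 u)) :=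
      (smul_transfer F u r).trans (h.trans (smul_transfer F u r').symm)
    have h1 := congrArg (P.ι.map ·) (F.map_injective (P.ι.map_injective h))
    simp only [Functor.map_smul, CategoryTheory.Functor.map_id] at h1
    have h2 : r • 𝟙 (ModuleCat.of A A) = r' • 𝟙 (ModuleCat.of A A) := I.map_injective (by
      rw [Functor.map_smul, Functor.map_smul, CategoryTheory.Functor.map_id]
      exact h1)
    simpa using LinearMap.congr_fun (congrArg ModuleCat.Hom.hom h2) (1 : A)
  · intro g
    obtain ⟨g', hg'⟩ := (F ⋙ P.ι).map_surjective g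
    obtain ⟨g'', hg''⟩ := I.map_surjective (P.ι.map g')
    refine ⟨g''.hom (1 : A), ?_⟩
    show g''.hom (1 : A) • 𝟙 (F.obj u).obj = g
    rw [← hg', Functor.comp_map, ← smul_transfer F u]
    refine congrArg (fun t => P.ι.map (F.map t)) (P.ι.map_injective ?_)
    rw [Functor.map_smul, CategoryTheory.Functor.map_id, ← hg'']
    show g''.hom (1 : A) • 𝟙 (I.obj (ModuleCat.of A A)) = I.map g''
    rw [← I.map_id, ← Functor.map_smul]
    refine congrArg I.map (ModuleCat.hom_ext (LinearMap.ext_ring ?_))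
    show g''.hom (1 : A) • (1 : A) = g''.hom (1 : A)
    exact mul_one _

end Groth.Agent.Inv43
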