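import Mathlib.RingTheory.Nakayama
import Mathlib.RingTheory.Finiteness.Basic
import Mathlib.RingTheory.Noetherian.Basic
import Mathlib.LinearAlgebra.Matrix.Charpoly.LinearMap
import Mathlib.RingTheory.Ideal.Quotient.Operations
import Mathlib.LinearAlgebra.Dimension.Free
import Mathlib.Algebra.Module.Torsion.Basic
import Mathlib.Algebra.Module.Projective

/-! A fibrewise criterion for projectivity. -/

set_option autoImplicit false
set_option linter.style.haveILetI false

universe u

open Polynomial

namespace Groth.Agent.Inv43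

variable {A : Type u} [CommRing A] {M : Type u} [AddCommGroup M] [Module A M]

/-- If `mM ≠ M` there is a nonzero map to the residue field. -/
theorem exists_ne_zero_or_smul_eq_zero (m : Ideal A) [m.IsMaximal] [Module.Finite A M] :
    (∃ φ : M →ₗ[A] A ⧸ m, φ ≠ 0) ∨ ∃ r : A, r - 1 ∈ m ∧ ∀ x : M, r • x = 0 := by
  classical
  letI := Ideal.Quotient.field m
  by_cases h : (⊤ : Submodule A M) ≤ m • ⊤
  · obtain ⟨r, hr, hr0⟩ := Submodule.exists_sub_one_mem_and_smul_eq_zero_of_fg_of_le_smul m
      (⊤ : Submodule A M) Module.Finite.fg_top h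
    exact Or.inr ⟨r, hr, fun x => hr0 x trivial⟩
  · left
    obtain ⟨x, -, hx⟩ := SetLike.not_le_iff_exists.1 h
    have hx' : (m • (⊤ : Submodule A M)).mkQ x ≠ 0 := by
      rwa [Submodule.mkQ_apply, ne_eq, Submodule.Quotient.mk_eq_zero]
    let b := Module.Free.chooseBasis (A ⧸ m) (M ⧸ m • (⊤ : Submodule A M))
    obtain ⟨j, hj⟩ : ∃ j, b.coord j ((m • (⊤ : Submodule A M)).mkQ x) ≠ 0 := by
      by_contra! h'
      exact hx' (b.forall_coord_eq_zero_iff.1 h')
    refine ⟨((b.coord j).restrictScalars A) ∘ₗ (m • (⊤ : Submodule A M)).mkQ, fun h0 => hj ?_⟩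
    exact LinearMap.congr_fun h0 x

/-- An endomorphism congruent to one modulo `m` divides a scalar congruent to one. -/
theorem exists_mul_eq_smul (m : Ideal A) [Module.Finite A M] (u : Module.End A M)
    (hu : LinearMap.range ((1 : Module.End A M) - u) ≤ m • ⊤) :
    ∃ (c : A) (w : Module.End A M), c - 1 ∈ m ∧ w * u = c • 1 := by
  obtain ⟨p, hp, -, hc, hp0⟩ :=
    LinearMap.exists_monic_and_natDegree_eq_and_coeff_mem_pow_and_aeval_eq_zero A _ m hu
  obtain ⟨q, hq⟩ : (X : A[X]) ∣ p.comp (1 - X) - C (p.eval 1) := by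
    rw [X_dvd_iff, coeff_sub, coeff_C_zero, coeff_zero_eq_eval_zero, eval_comp]
    simp
  refine ⟨p.eval 1, -aeval u q, ?_, ?_⟩
  · rw [eval_eq_sum_range, Finset.sum_range_succ, hp.coeff_natDegree]
    simp only [one_pow, mul_one, add_sub_cancel_right]
    refine Ideal.sum_mem _ fun k hk => ?_
    exact Ideal.pow_le_self (Nat.sub_ne_zero_of_lt (Finset.mem_range.1 hk)) (hc k)
  · have h1 := congrArg (aeval u) hq
    rw [map_sub, aeval_comp, map_sub, map_one, aeval_X, hp0, aeval_C, map_mul, aeval_X,
      zero_sub] at h1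
    have h2 : aeval u q * u = u * aeval u q := by
      have h3 := congrArg (aeval u) (mul_comm q (X : A[X]))
      rwa [map_mul, map_mul, aeval_X] at h3
    rw [neg_mul, h2, ← h1, neg_neg, Algebra.algebraMap_eq_smul_one]

/-- A presentation whose kernel maps to residue fields extend has projective target. -/
theorem projective_of_extend [IsNoetherianRing A] {F : Type u} [AddCommGroup F] [Module A F]
    [Module.Finite A F] [Module.Projective A F] [Module.Finite A M] (π : F →ₗ[A] M)
    (hπ : Function.Surjective π)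
    (h : ∀ (m : Ideal A) [m.IsMaximal], (∃ φ : M →ₗ[A] A ⧸ m, φ ≠ 0) →
      ∀ g : LinearMap.ker π →ₗ[A] A ⧸ m, ∃ g' : F →ₗ[A] A ⧸ m, g' ∘ₗ (LinearMap.ker π).subtype = g) :
    Module.Projective A M := by
  classical
  haveI : Module.Finite A (LinearMap.ker π) := inferInstance
  let N := LinearMap.ker π
  let S : Ideal A :=
    { carrier := {r | ∃ ψ : F →ₗ[A] N, ψ ∘ₗ N.subtype = r • LinearMap.id}
      add_mem' := by
        rintro a b ⟨ψ, hψ⟩ ⟨χ, hχ⟩
        exact ⟨ψ + χ, by rw [LinearMap.add_comp, hψ, hχ, add_smul]⟩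
      zero_mem' := ⟨0, by simp⟩
      smul_mem' := by
        rintro a r ⟨ψ, hψ⟩
        exact ⟨a • ψ, by rw [LinearMap.smul_comp, hψ, smul_smul, smul_eq_mul]⟩ }
  have hS : S = ⊤ := by
    by_contra hne
    obtain ⟨m, hm, hSm⟩ := Ideal.exists_le_maximal S hne
    have key : ∃ r : A, r - 1 ∈ m ∧ r ∈ S := by
      rcases exists_ne_zero_or_smul_eq_zero (M := M) m with hφ | ⟨r, hr, hr0⟩
      · letI := Ideal.Quotient.field m
        let W := N ⧸ m • (⊤ : Submodule A N)
        haveI : Module.Finite A W := inferInstance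
        haveI : Module.Finite (A ⧸ m) W := Module.Finite.of_restrictScalars_finite A _ _
        let b := Module.Free.chooseBasis (A ⧸ m) W
        let f := fun j => ((b.coord j).restrictScalars A) ∘ₗ (m • (⊤ : Submodule A N)).mkQ
        choose g' hg' using fun j => h m hφ (f j)
        choose φ hφ' using fun j => Module.projective_lifting_property (Submodule.mkQ m) (g' j)
          (Submodule.mkQ_surjective m)
        choose n hn using fun j => (m • (⊤ : Submodule A N)).mkQ_surjective (b j)
        let ψ : F →ₗ[A] N := ∑ j, (φ j).smulRight (n j)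
        have hu : LinearMap.range ((1 : Module.End A N) - ψ ∘ₗ N.subtype) ≤ m • ⊤ := by
          rintro _ ⟨x, rfl⟩
          refine (Submodule.Quotient.mk_eq_zero _).1 ?_
          show (m • (⊤ : Submodule A N)).mkQ (x - ψ (N.subtype x)) = 0
          rw [map_sub, sub_eq_zero]
          symm
          calc (m • (⊤ : Submodule A N)).mkQ (ψ (N.subtype x))
              = ∑ j, φ j (N.subtype x) • b j := by simp [ψ, hn]
            _ = ∑ j, (Ideal.Quotient.mk m (φ j (N.subtype x))) • b j := by
              refine Finset.sum_congr rfl fun j _ => ?_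
              exact (algebraMap_smul (A ⧸ m) _ _).symm
            _ = ∑ j, b.repr ((m • (⊤ : Submodule A N)).mkQ x) j • b j := by
              refine Finset.sum_congr rfl fun j _ => ?_
              congr 1
              exact (LinearMap.congr_fun (hφ' j) _).trans (LinearMap.congr_fun (hg' j) x)
            _ = _ := b.sum_repr _
        obtain ⟨c, w, hc, hw⟩ := exists_mul_eq_smul m _ hu
        exact ⟨c, hc, w ∘ₗ ψ, by rw [LinearMap.comp_assoc]; exact hw⟩
      · refine ⟨r, hr, (r • LinearMap.id : F →ₗ[A] F).codRestrict N fun x => ?_, ?_⟩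
        · show π (r • x) = 0
          rw [map_smul, hr0]
        · exact LinearMap.ext fun x => Subtype.ext rfl
    obtain ⟨r, hr, hrS⟩ := key
    exact (Ideal.ne_top_iff_one m).1 hm.ne_top (by simpa using m.sub_mem (hSm hrS) hr)
  obtain ⟨ψ, hψ⟩ := show (1 : A) ∈ S from hS ▸ Submodule.mem_top
  obtain ⟨t, ht⟩ : ∃ t : M →ₗ[A] F, π ∘ₗ t = LinearMap.id := by
    have hker : N ≤ LinearMap.ker (LinearMap.id - N.subtype ∘ₗ ψ : F →ₗ[A] F) := fun x hx => by
      have := LinearMap.congr_fun hψ ⟨x, hx⟩
      simp only [LinearMap.comp_apply, one_smul, LinearMap.id_apply, Submodule.subtype_apply] at this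
      simp [this]
    refine ⟨(N.liftQ _ hker) ∘ₗ (π.quotKerEquivOfSurjective hπ).symm.toLinearMap, LinearMap.ext fun y => ?_⟩
    obtain ⟨x, rfl⟩ := hπ y
    have hx : (π.quotKerEquivOfSurjective hπ).symm (π x) = N.mkQ x :=
      (π.quotKerEquivOfSurjective hπ).symm_apply_eq.2 rfl
    simp only [LinearMap.comp_apply, LinearEquiv.coe_coe, hx, LinearMap.id_apply]
    show π (x - (ψ x : F)) = π x
    rw [map_sub, LinearMap.mem_ker.1 (ψ x).2, sub_zero]
  exact Module.Projective.of_split t π ht

end Groth.Agent.Inv43
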