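import Groth.Agent.Inv43.ModuleLemma
import Groth.Agent.DR39.PC3
import Groth.Agent.DR39.TA

/-! Objects with a single fibre degree have projective cohomology. -/

set_option autoImplicit false
set_option linter.unusedSectionVars false
set_option linter.style.haveILetI false

universe u

open CategoryTheory CategoryTheory.Limits CategoryTheory.Pretriangulated
open Groth.Agent.DR39
attribute [local instance] HasDerivedCategory.standard

namespace Groth.Agent.Inv43

variable {A : Type u} [CommRing A]

/-- Maps to each residue field occur in at most one degree. -/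
def OneDeg (L : Dual.D A) : Prop :=
  ∀ (m : Ideal A) [m.IsMaximal], ∃ r : ℤ, ∀ i : ℤ, i ≠ r → ∀ f : L ⟶ (Dual.inD A (A ⧸ m))⟦i⟧, f = 0

theorem isGE_inD_shift (N : Type u) [AddCommGroup N] [Module A N] (i : ℤ) :
    ((Dual.inD A N)⟦i⟧).IsGE (-i) :=
  DerivedCategory.TStructure.t.isGE_shift _ 0 i (-i) (by omega)

theorem eq_zero_of_precomp {T : Triangle (Dual.D A)} (hT : T ∈ distinguishedTriangles) {Z : Dual.D A}
    (g : T.obj₃ ⟶ Z) (t q : ℤ) (h₁ : T.obj₁.IsLE (t - 1)) (hZ : Z.IsGE q) (hq : t - 2 < q)
    (h : T.mor₂ ≫ g = 0) : g = 0 := by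
  obtain ⟨k, hk⟩ := Triangle.yoneda_exact₃ _ hT g h
  haveI := h₁
  haveI := hZ
  haveI : DerivedCategory.TStructure.t.IsLE ((shiftFunctor (Dual.D A) (1 : ℤ)).obj T.obj₁) (t - 2) :=
    DerivedCategory.TStructure.t.isLE_shift T.obj₁ (t - 1) 1 (t - 2) (by omega)
  have hk0 : k = 0 := DerivedCategory.TStructure.t.zero k (t - 2) q hq
  rw [hk, hk0, comp_zero]

/-- Vanishing of `Ext¹` to residue fields detects projectivity. -/
theorem projective_of_ext [IsNoetherianRing A] (M : Type u) [AddCommGroup M] [Module A M] [Module.Finite A M]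
    (h : ∀ (m : Ideal A) [m.IsMaximal], (∃ φ : M →ₗ[A] A ⧸ m, φ ≠ 0) →
      ∀ f : Dual.inD A M ⟶ (Dual.inD A (A ⧸ m))⟦(1 : ℤ)⟧, f = 0) :
    Module.Projective A M := by
  obtain ⟨n, π, hπ⟩ := Module.Finite.exists_fin' A M
  refine projective_of_extend π hπ fun m _ hφ g => ?_
  let S : ShortComplex (ModuleCat.{u} A) :=
    ShortComplex.mk (ModuleCat.ofHom (LinearMap.ker π).subtype) (ModuleCat.ofHom π)
      (ModuleCat.hom_ext (LinearMap.ext fun x => x.2))
  have hS : S.ShortExact :=
    { exact := by
        rw [ShortComplex.moduleCat_exact_iff]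
        exact fun x hx => ⟨⟨x, hx⟩, rfl⟩
      mono_f := (ModuleCat.mono_iff_injective _).2 Subtype.val_injective
      epi_g := (ModuleCat.epi_iff_surjective _).2 hπ }
  let I := DerivedCategory.singleFunctor (ModuleCat.{u} A) 0
  let f : Dual.inD A (LinearMap.ker π) ⟶ Dual.inD A (A ⧸ m) := I.map (ModuleCat.ofHom g)
  have hT := rot_of_distTriang _ hS.singleTriangle_distinguished
  have h0 : hS.singleTriangle.rotate.mor₂ ≫ f⟦(1 : ℤ)⟧' = 0 := h m hφ _
  obtain ⟨k, hk⟩ := Triangle.yoneda_exact₃ _ hT (f⟦(1 : ℤ)⟧') h0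
  obtain ⟨k', hk'⟩ := (shiftFunctor (Dual.D A) (1 : ℤ)).map_surjective k
  obtain ⟨k'', hk''⟩ := I.map_surjective k'
  subst hk''
  subst hk'
  refine ⟨-k''.hom, ?_⟩
  have hk2 : f = I.map (ModuleCat.ofHom (LinearMap.ker π).subtype ≫ (-k'')) := by
    apply (shiftFunctor (Dual.D A) (1 : ℤ)).map_injective
    refine hk.trans ?_
    show (-(shiftFunctor (Dual.D A) (1 : ℤ)).map (I.map S.f)) ≫ _ = _
    rw [Functor.map_comp, Functor.map_comp, Functor.map_neg, Functor.map_neg, Preadditive.neg_comp,
      Preadditive.comp_neg]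
    rfl
  exact (congrArg ModuleCat.Hom.hom (I.map_injective hk2)).symm

/-- An object with finite bounded cohomology and one fibre degree has projective cohomology. -/
theorem projective_homology [IsNoetherianRing A] (a : ℤ) : ∀ (w : ℕ) (L : Dual.D A),
    Acyc (a + w) L → (∀ i, i < a → IsZero ((HF A i).obj L)) →
    (∀ i, Module.Finite A ((HF A i).obj L)) → OneDeg L →
    ∀ i, Module.Projective A ((HF A i).obj L) := by
  intro w
  induction w with
  | zero =>
    intro L hb ha _ _ i
    have hz : IsZero ((HF A i).obj L) := by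
      by_cases hi : i < a
      · exact ha i hi
      · exact hb i (by omega)
    haveI := ModuleCat.subsingleton_of_isZero hz
    haveI : Module.Free A ((HF A i).obj L) := Module.Free.of_subsingleton A _
    infer_instance
  | succ w ih =>
    intro L hb ha hfin hone
    obtain ⟨n, hn⟩ : ∃ n : ℤ, n = a + w := ⟨_, rfl⟩
    obtain ⟨T, hT, rfl, h₁, hlow, ⟨e⟩⟩ := exists_triangle_top L n
      (hb.mono (by rw [hn]; push_cast; omega))
    let M := (HF A n).obj T.obj₂
    haveI : Module.Finite A M := hfin n
    have h₁' : T.obj₁.IsLE (n - 1) := (acyc_iff_isLE n _).1 h₁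
    let e₃ : T.obj₃ ≅ (Dual.inD A M)⟦-n⟧ := e ≪≫ (singleShiftIso M n (-n) (by omega)).symm
    have hMproj : Module.Projective A M := by
      refine projective_of_ext M fun m _ hφ f => ?_
      obtain ⟨r, hr⟩ := hone m
      obtain ⟨φ, hφ⟩ := hφ
      let I := DerivedCategory.singleFunctor (ModuleCat.{u} A) 0
      let c : Dual.inD A M ⟶ Dual.inD A (A ⧸ m) := I.map (ModuleCat.ofHom φ)
      have hr' : r = -n := by
        by_contra hne
        have h0 := eq_zero_of_precomp hT (e₃.hom ≫ c⟦-n⟧') n n h₁'
          (by simpa using isGE_inD_shift (A := A) (A ⧸ m) (-n)) (by omega) (hr (-n) (Ne.symm hne) _)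
        have hc : c⟦-n⟧' = 0 := (cancel_epi e₃.hom).1 (h0.trans comp_zero.symm)
        have hc' : c = 0 := (shiftFunctor (Dual.D A) (-n)).map_injective (hc.trans (Functor.map_zero _ _ _).symm)
        exact hφ (congrArg ModuleCat.Hom.hom (I.map_injective (hc'.trans (Functor.map_zero _ _ _).symm)))
      let g : T.obj₃ ⟶ (Dual.inD A (A ⧸ m))⟦1 + -n⟧ :=
        e₃.hom ≫ f⟦-n⟧' ≫ ((shiftFunctorAdd (Dual.D A) (1 : ℤ) (-n)).app (Dual.inD A (A ⧸ m))).inv
      have hg := eq_zero_of_precomp hT g n (n - 1) h₁'
        (by have := isGE_inD_shift (A := A) (A ⧸ m) (1 + -n); rwa [show -(1 + -n) = n - 1 by omega] at this)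
        (by omega) (hr _ (by omega) _)
      simp only [g] at hg
      rw [← Category.assoc] at hg
      have h2 := (cancel_mono ((shiftFunctorAdd (Dual.D A) (1 : ℤ) (-n)).app (Dual.inD A (A ⧸ m))).inv).1
        (hg.trans zero_comp.symm)
      exact (shiftFunctor (Dual.D A) (-n)).map_injective
        (((cancel_epi e₃.hom).1 (h2.trans comp_zero.symm)).trans (Functor.map_zero _ _ _).symm)
    let S := (HomologicalComplex.single (ModuleCat.{u} A) (ComplexShape.up ℤ) n).obj M
    have hSp : ∀ i, Module.Projective A (S.X i) := fun i => by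
      by_cases hi : i = n
      · subst hi
        exact Module.Projective.of_equiv
          (HomologicalComplex.singleObjXSelf (ComplexShape.up ℤ) i M).symm.toLinearEquiv
      · haveI := ModuleCat.subsingleton_of_isZero
          (HomologicalComplex.isZero_single_obj_X (ComplexShape.up ℤ) n M i hi)
        haveI : Module.Free A (S.X i) := Module.Free.of_subsingleton A _
        infer_instance
    let eS : (QA A).obj S ≅ T.obj₃ :=
      ((DerivedCategory.singleFunctorIsoCompQ (ModuleCat.{u} A) n).app M).symm ≪≫ e.symm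
    have hδ : T.mor₃ = 0 := by
      refine (cancel_epi eS.hom).1 (Eq.trans ?_ comp_zero.symm)
      exact hom_eq_zero_of_projective S n n
        (fun i hi => HomologicalComplex.isZero_single_obj_X (ComplexShape.up ℤ) n M i (by omega)) hSp
        (acyc_shift _ 1 n (h₁.mono (by omega))) _
    haveI : Mono T.mor₁ := T.mono₁ hT hδ
    haveI : IsSplitMono T.mor₁ := isSplitMono_of_mono T.mor₁
    have hone' : OneDeg T.obj₁ := fun m _ => by
      obtain ⟨r, hr⟩ := hone m
      exact ⟨r, fun i hi f => by
        rw [← Category.id_comp f, ← IsSplitMono.id T.mor₁, Category.assoc, hr i hi (retraction T.mor₁ ≫ f),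
          comp_zero]⟩
    intro i
    rcases lt_trichotomy i n with hi | rfl | hi
    · obtain ⟨ei⟩ := hlow i hi
      haveI := ih T.obj₁ (by rw [← hn]; exact h₁) (fun j hj => by
        obtain ⟨ej⟩ := hlow j (by omega)
        exact (ha j hj).of_iso ej) (fun j => by
        by_cases hj : j < n
        · obtain ⟨ej⟩ := hlow j hj
          haveI := hfin j
          exact Module.Finite.equiv ej.symm.toLinearEquiv
        · haveI := ModuleCat.subsingleton_of_isZero (h₁ j (by omega))
          infer_instance) hone' i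
      exact Module.Projective.of_equiv ei.toLinearEquiv
    · exact hMproj
    · haveI := ModuleCat.subsingleton_of_isZero (hb i (by push_cast; omega))
      haveI : Module.Free A ((HF A i).obj T.obj₂) := Module.Free.of_subsingleton A _
      infer_instance

end Groth.Agent.Inv43
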